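import Mathlib

/-!
# Flatness of a tensor product with a faithfully flat module
-/

set_option autoImplicit false

universe u

open TensorProduct IsLocalRing

namespace Groth.Agent.FlatTensorDesc

variable {A B : Type u} [CommRing A] [CommRing B] [Algebra A B] (P G : Type u) [AddCommGroup P] [Module B P]
  [Module A P] [IsScalarTower A B P] [AddCommGroup G] [Module B G] [Module A G] [IsScalarTower A B G]

theorem assoc_lTensor {N N' : Type u} [AddCommGroup N] [Module A N] [AddCommGroup N'] [Module A N'] (f : N →ₗ[A] N')
    (x : (P ⊗[B] G) ⊗[A] N) :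
    AlgebraTensorModule.assoc A B B P G N' (LinearMap.lTensor (P ⊗[B] G) f x) =
      LinearMap.lTensor P (AlgebraTensorModule.map (LinearMap.id : G →ₗ[B] G) f)
        (AlgebraTensorModule.assoc A B B P G N x) := by
  induction x using TensorProduct.induction_on with
  | zero => simp
  | add a b ha hb => simp only [map_add, ha, hb]
  | tmul pg n =>
    induction pg using TensorProduct.induction_on with
    | zero => simp
    | add a b ha hb => simp only [add_tmul, map_add, ha, hb]
    | tmul p g => simp

theorem flat_tensor [Module.Flat B P] [Module.Flat A G] : Module.Flat A (P ⊗[B] G) := by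
  rw [Module.Flat.iff_lTensor_preserves_injective_linearMap]
  intro N N' _ _ _ _ f hf
  have h1 : Function.Injective (AlgebraTensorModule.map (LinearMap.id : G →ₗ[B] G) f) :=
    Module.Flat.lTensor_preserves_injective_linearMap (M := G) f hf
  have h2 := Module.Flat.lTensor_preserves_injective_linearMap (M := P)
    (AlgebraTensorModule.map (LinearMap.id : G →ₗ[B] G) f) h1
  intro x y hxy
  apply (AlgebraTensorModule.assoc A B B P G N).injective
  apply h2
  rw [← assoc_lTensor, ← assoc_lTensor, hxy]

theorem flat_of_flat_tensor [Module.FaithfullyFlat B P] [Module.Flat A (P ⊗[B] G)] : Module.Flat A G := by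
  rw [Module.Flat.iff_lTensor_preserves_injective_linearMap]
  intro N N' _ _ _ _ f hf
  have h1 := Module.Flat.lTensor_preserves_injective_linearMap (M := P ⊗[B] G) f hf
  have h2 : Function.Injective (LinearMap.lTensor P (AlgebraTensorModule.map (LinearMap.id : G →ₗ[B] G) f)) := by
    intro x y hxy
    obtain ⟨a, rfl⟩ := (AlgebraTensorModule.assoc A B B P G N).surjective x
    obtain ⟨b, rfl⟩ := (AlgebraTensorModule.assoc A B B P G N).surjective y
    rw [← assoc_lTensor, ← assoc_lTensor] at hxy
    exact congrArg _ (h1 ((AlgebraTensorModule.assoc A B B P G N').injective hxy))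
  exact (Module.FaithfullyFlat.lTensor_injective_iff_injective B P _).1 h2

theorem smul_top_tensor_eq_top_iff [Module.FaithfullyFlat B P] (I : Ideal A) :
    I • (⊤ : Submodule A (P ⊗[B] G)) = ⊤ ↔ I • (⊤ : Submodule A G) = ⊤ := by
  constructor
  · intro h
    let π := ((I.map (algebraMap A B)) • (⊤ : Submodule B G)).mkQ
    have hmap : (I • (⊤ : Submodule B G).restrictScalars A) = ((I.map (algebraMap A B)) • (⊤ : Submodule B G)).restrictScalars A :=
      (Ideal.smul_restrictScalars I (⊤ : Submodule B G)).symm
    have hz : ∀ z : P ⊗[B] G, LinearMap.lTensor P π z = 0 := by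
      intro z
      have hz : z ∈ I • (⊤ : Submodule A (P ⊗[B] G)) := by rw [h]; trivial
      refine Submodule.smul_induction_on hz (fun a ha w _ => ?_) (fun u v hu hv => by rw [map_add, hu, hv, add_zero])
      rw [← IsScalarTower.algebraMap_smul B a w, map_smul]
      induction w using TensorProduct.induction_on with
      | zero => simp
      | add u v hu hv => rw [map_add, smul_add, hu trivial, hv trivial, add_zero]
      | tmul p g =>
        rw [LinearMap.lTensor_tmul, ← tmul_smul, ← map_smul]
        rw [show π (algebraMap A B a • g) = 0 from (Submodule.Quotient.mk_eq_zero _).2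
          (Submodule.smul_mem_smul (Ideal.mem_map_of_mem _ ha) trivial), tmul_zero]
    have hs : Subsingleton (P ⊗[B] (G ⧸ (I.map (algebraMap A B)) • (⊤ : Submodule B G))) :=
      subsingleton_of_forall_eq 0 fun w => by
        obtain ⟨z, rfl⟩ := LinearMap.lTensor_surjective P (Submodule.mkQ_surjective _) w
        exact hz z
    have hG := (Module.FaithfullyFlat.subsingleton_tensorProduct_iff_right B P).1 hs
    rw [Submodule.Quotient.subsingleton_iff] at hG
    exact eq_top_iff.2 fun g _ => by
      have hg : g ∈ ((I.map (algebraMap A B)) • (⊤ : Submodule B G)).restrictScalars A := by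
        rw [Submodule.restrictScalars_mem, hG]; trivial
      rw [← hmap] at hg
      simpa using hg
  · intro h
    refine eq_top_iff.2 fun z _ => ?_
    induction z using TensorProduct.induction_on with
    | zero => exact zero_mem _
    | add u v hu hv => exact add_mem (hu trivial) (hv trivial)
    | tmul p g =>
      have hg : g ∈ I • (⊤ : Submodule A G) := by rw [h]; trivial
      refine Submodule.smul_induction_on hg (fun a ha w _ => ?_) (fun u v hu hv => ?_)
      · have e : p ⊗ₜ[B] (a • w) = a • (p ⊗ₜ[B] w) := by
          rw [← IsScalarTower.algebraMap_smul B a w, tmul_smul, IsScalarTower.algebraMap_smul]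
        rw [e]
        exact Submodule.smul_mem_smul ha trivial
      · rw [tmul_add]; exact add_mem hu hv

theorem faithfullyFlat_of_ne_top {L : Type u} [CommRing L] [IsLocalRing L] (P : Type u) [AddCommGroup P] [Module L P]
    [Module.Flat L P] (h : maximalIdeal L • (⊤ : Submodule L P) ≠ ⊤) : Module.FaithfullyFlat L P :=
  { submodule_ne_top := fun m hm => by rwa [IsLocalRing.eq_maximalIdeal hm] }

/-- Nonvanishing of a base change modulo the maximal ideal. -/
theorem baseChange_smul_top_ne_top {R A₀ B₀ C : Type u} [CommRing R] [CommRing A₀] [IsLocalRing A₀] [CommRing B₀]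
    [CommRing C] [Algebra R A₀] [Algebra B₀ C] [Algebra A₀ C] (mR : Ideal R) (mB : Ideal B₀)
    [IsLocalRing C] [IsLocalHom (algebraMap A₀ C)]
    (hmB : mB.map (algebraMap B₀ C) ≤ maximalIdeal C)
    (hle : mR.map (algebraMap R A₀) ≤ (mB.map (algebraMap B₀ C)).comap (algebraMap A₀ C))
    (hfl : (Ideal.quotientMap (mB.map (algebraMap B₀ C)) (algebraMap A₀ C) hle).Flat)
    (hproper : mR.map (algebraMap R A₀) ≠ ⊤)
    (F : Type u) [AddCommGroup F] [Module A₀ F] (hF : mR.map (algebraMap R A₀) • (⊤ : Submodule A₀ F) ≠ ⊤) :
    mB.map (algebraMap B₀ C) • (⊤ : Submodule C (C ⊗[A₀] F)) ≠ ⊤ := by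
  intro htop
  set I := mR.map (algebraMap R A₀) with hI
  set J := mB.map (algebraMap B₀ C) with hJ
  let φ := Ideal.quotientMap J (algebraMap A₀ C) hle
  let A' := A₀ ⧸ I
  let C' := C ⧸ J
  let N := F ⧸ I • (⊤ : Submodule A₀ F)
  haveI : Nontrivial A' := Ideal.Quotient.nontrivial_iff.2 hproper
  haveI : Nontrivial C' :=
    Ideal.Quotient.nontrivial_iff.2 (ne_top_of_le_ne_top (maximalIdeal.isMaximal C).ne_top hmB)
  haveI : IsLocalRing A' := IsLocalRing.of_surjective' _ Ideal.Quotient.mk_surjective
  haveI : IsLocalRing C' := IsLocalRing.of_surjective' _ Ideal.Quotient.mk_surjective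
  letI : Algebra A' C' := φ.toAlgebra
  haveI : IsLocalHom (algebraMap A' C') := ⟨fun a ha => by
    obtain ⟨a, rfl⟩ := Ideal.Quotient.mk_surjective a
    haveI := IsLocalHom.of_surjective (Ideal.Quotient.mk J) Ideal.Quotient.mk_surjective
    exact (isUnit_of_map_unit (algebraMap A₀ C) a (isUnit_of_map_unit (Ideal.Quotient.mk J) _ ha)).map _⟩
  haveI : IsScalarTower A₀ A' C' := IsScalarTower.of_algebraMap_eq fun _ => rfl
  haveI : Module.Flat A' C' := hfl
  haveI : Module.FaithfullyFlat A' C' := Module.FaithfullyFlat.of_flat_of_isLocalHom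
  haveI : IsScalarTower A₀ A' N := inferInstance
  haveI : Nontrivial N := Submodule.Quotient.nontrivial_iff.2 hF
  haveI := (Module.FaithfullyFlat.nontrivial_tensorProduct_iff_right A' C' (N := N)).2 inferInstance
  let q : C ⊗[A₀] F →ₗ[A₀] C' ⊗[A₀] N :=
    TensorProduct.map (IsScalarTower.toAlgHom A₀ C C').toLinearMap (Submodule.mkQ _)
  have hq : Function.Surjective q := TensorProduct.map_surjective Ideal.Quotient.mk_surjective (Submodule.mkQ_surjective _)
  have hzero : ∀ z : C ⊗[A₀] F, q z = 0 := by
    intro z
    have hz : z ∈ J • (⊤ : Submodule C (C ⊗[A₀] F)) := by rw [htop]; trivial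
    refine Submodule.smul_induction_on hz (fun c hc w _ => ?_) (fun u v hu hv => by rw [map_add, hu, hv, add_zero])
    induction w using TensorProduct.induction_on with
    | zero => simp
    | add u v hu hv => rw [smul_add, map_add, hu trivial, hv trivial, add_zero]
    | tmul d e =>
      show q ((c * d) ⊗ₜ e) = 0
      show (Ideal.Quotient.mk J (c * d)) ⊗ₜ[A₀] Submodule.mkQ _ e = 0
      rw [Ideal.Quotient.eq_zero_iff_mem.2 (Ideal.mul_mem_right d J hc), zero_tmul]
  obtain ⟨w, hw⟩ := exists_ne (0 : C' ⊗[A'] N)
  have hsurj : ∀ w : C' ⊗[A'] N, w = 0 := fun w => by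
    induction w using TensorProduct.induction_on with
    | zero => rfl
    | add u v hu hv => rw [hu, hv, add_zero]
    | tmul c n =>
      obtain ⟨z, hz⟩ := hq (c ⊗ₜ[A₀] n)
      rw [hzero z] at hz
      have := congrArg (TensorProduct.lift ((TensorProduct.mk A' C' N).restrictScalars₁₂ A₀ A₀)) hz.symm
      simpa using this
  exact hw (hsurj w)

end Groth.Agent.FlatTensorDesc
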