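import Groth.Agent.FlatTensorDesc.Alg
import Groth.Agent.S4678
import Groth.Agent.AssTensor.Alg
import Groth.Agent.DQCoh.BCStalk

/-!
# Faithfully flat modules and flatness of tensor products
-/

set_option autoImplicit false
set_option linter.style.haveILetI false
set_option backward.isDefEq.respectTransparency false

universe u

open CategoryTheory CategoryTheory.Limits AlgebraicGeometry IsLocalRing TensorProduct

namespace Groth.Agent.FlatTensorDesc

variable {W T Z : Scheme.{u}}

/-- `M ⊗ κ(f x) ≠ 0` at `x`. -/
def NonVan (f : W ⟶ T) (M : W.Modules) (x : W) : Prop :=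
  letI := FlatMod.moduleStalkOver f M x
  maximalIdeal (T.presheaf.stalk (f x)) • (⊤ : Submodule (T.presheaf.stalk (f x)) (M.presheaf.stalk x)) ≠ ⊤

theorem smul_top_eq_top_of_linearEquiv {A : Type u} [CommRing A] (I : Ideal A) {M N : Type u} [AddCommGroup M]
    [Module A M] [AddCommGroup N] [Module A N] (e : M ≃ₗ[A] N) :
    I • (⊤ : Submodule A M) = ⊤ ↔ I • (⊤ : Submodule A N) = ⊤ := by
  have h : (I • (⊤ : Submodule A M)).map e.toLinearMap = I • (⊤ : Submodule A N) := by
    rw [Submodule.map_smul'', Submodule.map_top, LinearEquiv.range]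
  refine ⟨fun hM => by rw [← h, hM, Submodule.map_top, LinearEquiv.range], fun hN => ?_⟩
  rw [← h] at hN
  apply Submodule.map_injective_of_injective (f := e.toLinearMap) e.injective
  rw [hN, Submodule.map_top, LinearEquiv.range]

variable (q : W ⟶ T) (h : T ⟶ Z) (P : W.Modules) (G : T.Modules) (w : W)

theorem flat_and_nonVan_iff (hP : FlatMod.IsFlatOverAt q P w) (hnv : NonVan q P w) :
    (FlatMod.IsFlatOverAt (q ≫ h) (CohB1.tensorMod P ((Scheme.Modules.pullback q).obj G)) w →
        FlatMod.IsFlatOverAt h G (q w)) ∧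
      (NonVan h G (q w) → NonVan (q ≫ h) (CohB1.tensorMod P ((Scheme.Modules.pullback q).obj G)) w) := by
  let A := Z.presheaf.stalk (h (q w))
  let B := T.presheaf.stalk (q w)
  let L := W.presheaf.stalk w
  let M := CohB1.tensorMod P ((Scheme.Modules.pullback q).obj G)
  letI : Algebra A B := (h.stalkMap (q w)).hom.toAlgebra
  letI : Algebra B L := (q.stalkMap w).hom.toAlgebra
  letI : Algebra A L := ((q ≫ h).stalkMap w).hom.toAlgebra
  haveI : IsScalarTower A B L := IsScalarTower.of_algebraMap_eq' (by
    show ((q ≫ h).stalkMap w).hom = (q.stalkMap w).hom.comp (h.stalkMap (q w)).hom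
    rw [Scheme.Hom.stalkMap_comp]
    rfl)
  letI : Module B (P.presheaf.stalk w) := FlatMod.moduleStalkOver q P w
  letI : Module A (P.presheaf.stalk w) := FlatMod.moduleStalkOver (q ≫ h) P w
  letI : Module A (G.presheaf.stalk (q w)) := FlatMod.moduleStalkOver h G (q w)
  letI : Module A (M.presheaf.stalk w) := FlatMod.moduleStalkOver (q ≫ h) M w
  haveI : IsScalarTower B L (P.presheaf.stalk w) := IsScalarTower.of_algebraMap_smul fun _ _ => rfl
  haveI : IsScalarTower A L (P.presheaf.stalk w) := IsScalarTower.of_algebraMap_smul fun _ _ => rfl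
  haveI : IsScalarTower A B (G.presheaf.stalk (q w)) := IsScalarTower.of_algebraMap_smul fun _ _ => rfl
  haveI : IsScalarTower A L (M.presheaf.stalk w) := IsScalarTower.of_algebraMap_smul fun _ _ => rfl
  haveI : IsScalarTower A B (P.presheaf.stalk w) := IsScalarTower.of_algebraMap_smul fun a m => by
    rw [← IsScalarTower.algebraMap_smul L (algebraMap A B a) m, ← IsScalarTower.algebraMap_apply A B L,
      IsScalarTower.algebraMap_smul]
  haveI : Module.Flat B (P.presheaf.stalk w) := hP
  haveI : Module.FaithfullyFlat B (P.presheaf.stalk w) := faithfullyFlat_of_ne_top (L := B) _ hnv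
  let e : P.presheaf.stalk w ⊗[B] G.presheaf.stalk (q w) ≃ₗ[L] M.presheaf.stalk w :=
    (AlgebraTensorModule.cancelBaseChange B L L (P.presheaf.stalk w) (G.presheaf.stalk (q w))).symm ≪≫ₗ
      TensorProduct.congr (LinearEquiv.refl L _) (AssTensor.pullEquiv q G w) ≪≫ₗ
      AssTensor.tensorEquiv P ((Scheme.Modules.pullback q).obj G) w
  constructor
  · intro hM
    haveI : Module.Flat A (M.presheaf.stalk w) := hM
    haveI : Module.Flat A (P.presheaf.stalk w ⊗[B] G.presheaf.stalk (q w)) :=
      Module.Flat.of_linearEquiv (e.restrictScalars A)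
    exact flat_of_flat_tensor (A := A) (B := B) (P.presheaf.stalk w) (G.presheaf.stalk (q w))
  · intro hG hM
    refine hG ?_
    exact (smul_top_tensor_eq_top_iff (A := A) (B := B) (P.presheaf.stalk w) (G.presheaf.stalk (q w)) _).1
      ((smul_top_eq_top_of_linearEquiv _ (e.restrictScalars A)).2 hM)

theorem nonVan_of_tensor (hT : NonVan (q ≫ h) (CohB1.tensorMod P ((Scheme.Modules.pullback q).obj G)) w) :
    NonVan h G (q w) := by
  let A := Z.presheaf.stalk ((q ≫ h) w)
  let B := T.presheaf.stalk (q w)
  let L := W.presheaf.stalk w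
  let M := CohB1.tensorMod P ((Scheme.Modules.pullback q).obj G)
  letI : Algebra A B := (h.stalkMap (q w)).hom.toAlgebra
  letI : Algebra B L := (q.stalkMap w).hom.toAlgebra
  letI : Module (Z.presheaf.stalk (h (q w))) (G.presheaf.stalk (q w)) := FlatMod.moduleStalkOver h G (q w)
  letI : Module A (G.presheaf.stalk (q w)) := FlatMod.moduleStalkOver h G (q w)
  letI : Module A (M.presheaf.stalk w) := FlatMod.moduleStalkOver (q ≫ h) M w
  intro hG
  refine hT ?_
  let e : L ⊗[B] G.presheaf.stalk (q w) ≃ₗ[L] ((Scheme.Modules.pullback q).obj G).presheaf.stalk w :=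
    AssTensor.pullEquiv q G w
  let e' := AssTensor.tensorEquiv P ((Scheme.Modules.pullback q).obj G) w
  refine eq_top_iff.2 fun m _ => ?_
  obtain ⟨z, rfl⟩ := e'.surjective m
  induction z using TensorProduct.induction_on with
  | zero => rw [map_zero]; exact zero_mem _
  | add u v hu hv => rw [map_add]; exact add_mem (hu trivial) (hv trivial)
  | tmul p r =>
    obtain ⟨y, rfl⟩ := e.surjective r
    induction y using TensorProduct.induction_on with
    | zero => rw [map_zero, tmul_zero, map_zero]; exact zero_mem _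
    | add u v hu hv => rw [map_add, tmul_add, map_add]; exact add_mem (hu trivial) (hv trivial)
    | tmul l g =>
      have hg : g ∈ maximalIdeal A • (⊤ : Submodule A (G.presheaf.stalk (q w))) := eq_top_iff.1 hG (Submodule.mem_top (x := g))
      refine Submodule.smul_induction_on hg (fun a ha g' _ => ?_) (fun u v hu hv => ?_)
      · have : e' (p ⊗ₜ e (l ⊗ₜ (a • g'))) = a • e' (p ⊗ₜ e (l ⊗ₜ g')) := by
          show _ = ((q ≫ h).stalkMap w).hom a • e' _
          rw [show ((q ≫ h).stalkMap w).hom a = (q.stalkMap w).hom ((h.stalkMap (q w)).hom a) by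
            rw [Scheme.Hom.stalkMap_comp]; rfl]
          rw [← map_smul e', ← tmul_smul, ← map_smul e]
          congr 3
          show l ⊗ₜ[B] ((h.stalkMap (q w)).hom a • g') = (algebraMap B L ((h.stalkMap (q w)).hom a)) • (l ⊗ₜ[B] g')
          rw [tmul_smul, IsScalarTower.algebraMap_smul]
        rw [this]
        exact Submodule.smul_mem_smul ha trivial
      · rw [tmul_add, map_add, tmul_add, map_add]
        exact add_mem hu hv

variable {X Y Y' : Scheme.{u}} (f : X ⟶ Y) (g : Y' ⟶ Y) (F : X.Modules)

theorem nonVan_pullback (z : ↥(pullback f g)) (hF : NonVan f F (pullback.fst f g z)) :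
    NonVan (pullback.snd f g) ((Scheme.Modules.pullback (pullback.fst f g)).obj F) z := by
  let x := pullback.fst f g z
  let y' := pullback.snd f g z
  let R := Y.presheaf.stalk (f x)
  let A := X.presheaf.stalk x
  let B := Y'.presheaf.stalk y'
  let C := (pullback f g).presheaf.stalk z
  letI : Algebra R A := (f.stalkMap x).hom.toAlgebra
  letI : Algebra R B := (DQCoh.BCStalk.baseMap f g z).hom.toAlgebra
  letI : Algebra A C := ((pullback.fst f g).stalkMap z).hom.toAlgebra
  letI : Algebra B C := ((pullback.snd f g).stalkMap z).hom.toAlgebra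
  letI : Algebra R C := (f.stalkMap x ≫ (pullback.fst f g).stalkMap z).hom.toAlgebra
  haveI : IsScalarTower R A C := IsScalarTower.of_algebraMap_eq fun _ => rfl
  haveI : IsScalarTower R B C := IsScalarTower.of_algebraMap_eq fun a => congr(($(DQCoh.BCStalk.comm f g z)).hom a)
  have hi : Inseparable (g y') (f x) := .of_eq (DQCoh.BCStalk.base_eq f g z)
  let σ : R ≃+* Y.presheaf.stalk (g y') := (Y.presheaf.stalkCongr hi.symm).commRingCatIsoToRingEquiv
  have hσ : ∀ r, algebraMap R B r = (g.stalkMap y').hom (σ r) := fun _ => rfl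
  haveI : IsLocalHom (algebraMap R A) := inferInstanceAs (IsLocalHom (f.stalkMap x).hom)
  haveI : IsLocalHom (algebraMap R B) := ⟨fun r hr => by
    rw [hσ] at hr
    simpa using (isUnit_of_map_unit (g.stalkMap y').hom _ hr).map σ.symm⟩
  haveI : IsLocalHom (algebraMap A C) := inferInstanceAs (IsLocalHom ((pullback.fst f g).stalkMap z).hom)
  haveI : IsLocalHom (algebraMap B C) := inferInstanceAs (IsLocalHom ((pullback.snd f g).stalkMap z).hom)
  letI : Module R (F.presheaf.stalk x) := FlatMod.moduleStalkOver f F x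
  haveI : IsScalarTower R A (F.presheaf.stalk x) := IsScalarTower.of_algebraMap_smul fun _ _ => rfl
  have hF' : (maximalIdeal R).map (algebraMap R A) • (⊤ : Submodule A (F.presheaf.stalk x)) ≠ ⊤ := by
    intro htop
    refine hF ?_
    have h2 := Ideal.smul_restrictScalars (maximalIdeal R) (⊤ : Submodule A (F.presheaf.stalk x))
    rw [htop, Submodule.restrictScalars_top] at h2
    exact h2.symm
  have hproper : (maximalIdeal R).map (algebraMap R A) ≠ ⊤ :=
    ne_top_of_le_ne_top (maximalIdeal.isMaximal A).ne_top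
      (Ideal.map_le_iff_le_comap.2 fun r hr => map_nonunit (algebraMap R A) r hr)
  have hmB : (maximalIdeal B).map (algebraMap B C) ≤ maximalIdeal C :=
    Ideal.map_le_iff_le_comap.2 fun r hr => map_nonunit (algebraMap B C) r hr
  have hle : (maximalIdeal R).map (algebraMap R A) ≤ ((maximalIdeal B).map (algebraMap B C)).comap (algebraMap A C) := by
    rw [Ideal.map_le_iff_le_comap, Ideal.comap_comap, ← IsScalarTower.algebraMap_eq, IsScalarTower.algebraMap_eq R B C]
    exact fun r hr => Ideal.mem_map_of_mem _ (map_nonunit (algebraMap R B) r hr)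
  have hfl := AssTensor.flat_quotientMap (R := R) (A := B) (B := A) (C := C)
    (AssTensor.flat_cmpHom_swap (R := R) (A := A) (B := B) (C := C) (DQCoh.BCStalk.flat_cmpHom f g z)) hle
  have key := baseChange_smul_top_ne_top (R := R) (A₀ := A) (B₀ := B) (C := C) (maximalIdeal R) (maximalIdeal B)
    hmB hle hfl hproper (F.presheaf.stalk x) hF'
  let e : C ⊗[A] F.presheaf.stalk x ≃ₗ[C] ((Scheme.Modules.pullback (pullback.fst f g)).obj F).presheaf.stalk z :=
    AssTensor.pullEquiv (pullback.fst f g) F z
  intro htop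
  letI : Module B (((Scheme.Modules.pullback (pullback.fst f g)).obj F).presheaf.stalk z) :=
    FlatMod.moduleStalkOver (pullback.snd f g) _ z
  haveI : IsScalarTower B C (((Scheme.Modules.pullback (pullback.fst f g)).obj F).presheaf.stalk z) :=
    IsScalarTower.of_algebraMap_smul fun _ _ => rfl
  refine key ((smul_top_eq_top_of_linearEquiv _ e).2 ?_)
  have h2 := Ideal.smul_restrictScalars (maximalIdeal B)
    (⊤ : Submodule C (((Scheme.Modules.pullback (pullback.fst f g)).obj F).presheaf.stalk z))
  rw [Submodule.restrictScalars_top] at h2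
  exact (Submodule.restrictScalars_eq_top_iff _ _ _).1 (h2.trans htop)

end Groth.Agent.FlatTensorDesc
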